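import Cfsg.Agent.H780.QGood
import Cfsg.Agent.H784.Q.NF

/-! # S5176, section 5.1: the normal form of `β` (helper766; plan: tools/plans/S5176.md, S5176_five.lean) -/
set_option autoImplicit false
set_option linter.unusedSectionVars false

namespace Cfsg.Agent.H766.QW
open Cfsg Cfsg.FusionSystem Cfsg.Agent.H752 Cfsg.Agent.H784.SF Cfsg.Agent.H784.Q

universe u

/-! ### Integers modulo a power of two -/

lemma isCoprime_two_pow {m : ℕ} {s : ℤ} (hs : Odd s) : IsCoprime ((2 : ℤ) ^ m) s := by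
  obtain ⟨l, rfl⟩ := hs
  exact IsCoprime.pow_left ⟨-l, 1, by ring⟩

lemma dvd_sub_one_of_pow_odd {m : ℕ} {u : ℤ} {n : ℕ} (hn : Odd n) (hu : Odd u) (h : (2 : ℤ) ^ m ∣ u ^ n - 1) :
    (2 : ℤ) ^ m ∣ u - 1 := by
  have h1 : Odd (∑ i ∈ Finset.range n, u ^ i) := by
    have h2 : ∀ n : ℕ, Even ((∑ i ∈ Finset.range n, u ^ i) - (n : ℤ)) := by
      intro n
      induction n with
      | zero => simp
      | succ n ih =>
        rw [Finset.sum_range_succ]
        push_cast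
        have e1 : (∑ i ∈ Finset.range n, u ^ i) + u ^ n - ((n : ℤ) + 1) =
          ((∑ i ∈ Finset.range n, u ^ i) - (n : ℤ)) + (u ^ n - 1) := by ring
        rw [e1]
        exact ih.add (hu.pow.sub_odd odd_one)
    have h3 : Odd (n : ℤ) := by exact_mod_cast hn
    have h4 := (h2 n).add_odd h3
    rwa [sub_add_cancel] at h4
  rw [← mul_geom_sum] at h
  exact (isCoprime_two_pow h1).dvd_of_dvd_mul_right h

variable {Ω : Type u} [Group Ω] {S : Subgroup Ω}
variable {F : FusionSystem S} {R : Subgroup Ω} {a b z r : Ω} {m : ℕ}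
variable {t c d k : Ω} {β : Ω → Ω}

lemma zpow_one_iff {x : Ω} (hx : orderOf x = 2 ^ m) {i : ℤ} : x ^ i = 1 ↔ (2 : ℤ) ^ m ∣ i := by
  rw [← orderOf_dvd_iff_zpow_eq_one, hx]
  push_cast
  rfl

lemma zpow_eq_iff {x : Ω} (hx : orderOf x = 2 ^ m) {i j : ℤ} : x ^ i = x ^ j ↔ (2 : ℤ) ^ m ∣ i - j := by
  rw [← zpow_one_iff hx, zpow_sub, mul_inv_eq_one]

section
variable (h : CaseA F R a b z r m t c d k β) [Finite S]
include h

lemma cad (i j : ℤ) : d ^ i * a ^ j = a ^ j * d ^ i := ((show Commute d a from h.da).zpow_zpow i j).eq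

lemma R_d {j : ℤ} (hj : d ^ j ∈ R) : d ^ j = 1 := by
  have h1 : d ^ j ∈ Subgroup.zpowers a := by
    by_contra h2
    have h3 := h.sit.qr.out_inv hj h2 1
    have h4 := cad h j 1
    rw [h4, mul_left_inj, zpow_one] at h3
    exact h.sit.qr.a2 (by nth_rw 1 [h3]; rw [inv_mul_cancel])
  have h5 : d ^ j ∈ Subgroup.zpowers a ⊓ Subgroup.zpowers d := ⟨h1, Subgroup.zpow_mem _ (Subgroup.mem_zpowers d) j⟩
  rwa [h.disj, Subgroup.mem_bot] at h5

lemma indep {i j i' j' : ℤ} (he : a ^ i * d ^ j = a ^ i' * d ^ j') : (2 : ℤ) ^ m ∣ i - i' ∧ (2 : ℤ) ^ m ∣ j - j' := by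
  have h1 : a ^ (i - i') = d ^ (j' - j) := by
    have h2 : a ^ i = a ^ i' * d ^ j' * (d ^ j)⁻¹ := by rw [← he]; group
    calc a ^ (i - i') = (a ^ i')⁻¹ * a ^ i := by rw [sub_eq_neg_add, zpow_add, zpow_neg]
      _ = d ^ (j' - j) := by rw [h2, zpow_sub]; group
  have h3 : d ^ (j' - j) = 1 := R_d h (by rw [← h1]; exact zpow_mem h.sit.qr.aR _)
  refine ⟨(zpow_one_iff h.sit.qr.oa).1 (h1.trans h3), ?_⟩
  have h4 := (zpow_one_iff h.od).1 h3
  rw [← neg_sub]
  exact (dvd_neg).2 h4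

/-- `β` on `M`. -/
lemma beta_M {i x y : ℤ} (ha : β a = d ^ i) (hd : β d = a ^ x * d ^ y) (p q : ℤ) :
    β (a ^ p * d ^ q) = a ^ (x * q) * d ^ (i * p + y * q) := by
  have haC : a ∈ CS S t := h.MC h.aM
  have hmp := h.v.mp
  have hz : ∀ (u : Ω), u ∈ CS S t → ∀ n : ℤ, β (u ^ n) = β u ^ n := by
    intro u hu n
    rcases Int.eq_nat_or_neg n with ⟨l, rfl | rfl⟩
    · rw [zpow_natCast, zpow_natCast, hmp.pow hu]
    · rw [zpow_neg, zpow_natCast, zpow_neg, zpow_natCast, hmp.inv (Subgroup.pow_mem _ hu l), hmp.pow hu]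
  rw [hmp.mul (Subgroup.zpow_mem _ haC p) (Subgroup.zpow_mem _ h.dC q), hz a haC, hz d h.dC, ha, hd]
  have hc : Commute (a ^ x) (d ^ y) := (cad h y x).symm
  rw [hc.mul_zpow, ← zpow_mul, ← zpow_mul, ← zpow_mul, ← mul_assoc, cad h, mul_assoc, ← zpow_add]

theorem beta_form : ∃ i x : ℤ, Odd i ∧ β a = d ^ i ∧ β d = a ^ x * d ^ (-1 : ℤ) ∧ (2 : ℤ) ^ m ∣ i * x + 1 := by
  obtain ⟨i, hi, hβa⟩ := h.βa
  rw [← zpow_natCast] at hβa
  have hi' : Odd (i : ℤ) := by exact_mod_cast hi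
  obtain ⟨x, y, hβd⟩ := h.mem_M.1 (h.Mβ d h.dM)
  have hm := h.sit.qr.m3
  have haC : a ∈ CS S t := h.MC h.aM
  have hmp := h.v.mp
  have hM := beta_M h hβa hβd
  have hβ3 : ∀ p : ℤ, β (β (β (a ^ p))) = a ^ (x * y * i * p) * d ^ ((i * (i * x + y * y)) * p) := by
    intro p
    have e0 : a ^ p = a ^ p * d ^ (0 : ℤ) := by rw [zpow_zero, mul_one]
    rw [e0, hM, hM, hM]
    congr 2 <;> ring
  have hmp2 : Mp F (CS S t) (fun x => β (β x)) := hmp.comp hmp h.v.maps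
  have hmp3 : Mp F (CS S t) (fun x => β (β (β x))) := hmp2.comp hmp (fun x hx => h.v.maps _ (h.v.maps _ hx))
  have hzC : z ∈ CS S t := h.MC h.zM
  have htC : t ∈ CS S t := h.MC h.tM
  have hz3 : β (β (β z)) = z := by
    rw [h.v.βz, h.v.βt, hmp.mul htC hzC, h.v.βt, h.v.βz, mul_assoc, ← h.tzt, ← mul_assoc, h.tt, one_mul]
  have hR3 : β (β (β a)) ∈ R := h.sit.factC hmp3 hzC hz3 a h.sit.qr.aR haC
  have h31 := hβ3 1
  rw [zpow_one, mul_one, mul_one] at h31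
  have hd1 : d ^ (i * (i * x + y * y) : ℤ) = 1 := by
    refine R_d h ?_
    have h1 : d ^ (i * (i * x + y * y) : ℤ) = (a ^ (x * y * i))⁻¹ * β (β (β a)) := by rw [h31]; group
    rw [h1]
    exact mul_mem (Subgroup.inv_mem _ (zpow_mem h.sit.qr.aR _)) hR3
  have hdvd1 : (2 : ℤ) ^ m ∣ i * x + y * y := by
    have h1 := (zpow_one_iff h.od).1 hd1
    exact (isCoprime_two_pow hi').dvd_of_dvd_mul_left h1
  -- the order of `β³` on `⟨a⟩`
  have h3a : ∀ p : ℤ, β (β (β (a ^ p))) = a ^ (x * y * i * p) := by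
    intro p
    rw [hβ3, zpow_mul d, hd1, one_zpow, mul_one]
  obtain ⟨n, hn, hβn⟩ := h.v.odd
  have hiter : ∀ j : ℕ, β^[3 * j] a = a ^ ((x * y * i) ^ j) := by
    intro j
    induction j with
    | zero => simp
    | succ j ih =>
      rw [Nat.mul_succ, add_comm, Function.iterate_add_apply, ih]
      show β (β (β _)) = _
      rw [h3a, pow_succ, mul_comm]
  have hn3 : β^[3 * n] a = a := by
    rw [mul_comm, Function.iterate_mul]
    have hfix : ∀ j : ℕ, (β^[n])^[j] a = a := by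
      intro j
      induction j with
      | zero => rfl
      | succ j ih => rw [Function.iterate_succ_apply', ih, hβn a haC]
    exact hfix 3
  have hun : (2 : ℤ) ^ m ∣ (x * y * i) ^ n - 1 := by
    rw [← zpow_eq_iff h.sit.qr.oa, ← hiter, hn3, zpow_one]
  have huodd : Odd (x * y * i) := by
    have h2 : (2 : ℤ) ∣ (x * y * i) ^ n - 1 := (dvd_pow_self 2 (by omega)).trans hun
    by_contra hev
    rw [Int.not_odd_iff_even] at hev
    have hn0 : n ≠ 0 := by rintro rfl; exact absurd hn (by decide)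
    have h3 : (2 : ℤ) ∣ (x * y * i) ^ n := (hev.two_dvd).trans (dvd_pow_self _ hn0)
    have h4 := dvd_sub h3 h2
    rw [sub_sub_cancel] at h4
    norm_num at h4
  have hu1 := dvd_sub_one_of_pow_odd hn huodd hun
  have hyodd : Odd y := by
    rw [Int.odd_mul, Int.odd_mul] at huodd
    exact huodd.1.2
  have hy3 : (2 : ℤ) ^ m ∣ (-y) ^ 3 - 1 := by
    have e1 : (-y) ^ 3 - 1 = (x * y * i - 1) - y * (i * x + y * y) := by ring
    rw [e1]
    exact dvd_sub hu1 (hdvd1.mul_left y)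
  have hy1 : (2 : ℤ) ^ m ∣ -y - 1 := dvd_sub_one_of_pow_odd (by decide) hyodd.neg hy3
  refine ⟨i, x, hi', hβa, ?_, ?_⟩
  · rw [hβd, (zpow_eq_iff h.od).2]
    have e1 : y - -1 = -(-y - 1) := by ring
    rw [e1, dvd_neg]
    exact hy1
  · have e1 : (i : ℤ) * x + 1 = (i * x + y * y) - (-y - 1) * (y - 1) * (-1) := by ring
    rw [e1]
    exact dvd_sub hdvd1 ((hy1.mul_right _).mul_right _)

end

end Cfsg.Agent.H766.QW
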